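import Cfsg.Agent.SUEight.Monomial
import Cfsg.Agent.MaxSub.UnitarySubspace
import Cfsg.Agent.MaxSub.UnitaryDecomposition
import Cfsg.Agent.MaxSub.LagrangianPairMax
import Cfsg.Agent.TensorUnitary.Main
import Cfsg.Agent.FormSubfield.Maximal
import Cfsg.Agent.FormSubfield.OrthMaximal

/-!
# Geometric maximal subgroups of `SU₈`: the clauses without symplectic type
-/

set_option autoImplicit false

namespace CfsgLib.SUEight

open Matrix Cfsg.Geo CfsgLib.MaxSub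

universe u

variable {F : Type u} [Field F] [Fintype F] {q : ℕ}

/-- Clause (1). -/
theorem isMaximalIn_singular (hF : Fintype.card F = q ^ 2) (W : Submodule F (Fin 8 → F)) (hW0 : W ≠ ⊥)
    (hW : IsTotallySingularFor (Cfsg.hermForm 8 F q) W) :
    IsMaximalIn (Cfsg.GU 8 F q ⊓ specialLinear (Fin 8) F)
      (subspaceStabilizer W ⊓ (Cfsg.GU 8 F q ⊓ specialLinear (Fin 8) F)) := by
  obtain ⟨σ, hne, hinv, hσ⟩ := exists_conjEquiv hF
  exact UC.isMaximalIn_uSingular (isUnitaryForm_hermForm hne hinv hσ) hσ hF (by norm_num) hW0 hW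

/-- Clause (2). -/
theorem isMaximalIn_nondeg (hF : Fintype.card F = q ^ 2) (W : Submodule F (Fin 8 → F)) (hW0 : W ≠ ⊥)
    (hW : IsNondegenerateOn (Cfsg.hermForm 8 F q) W) (hdim : 2 * Module.finrank F W < 8) :
    IsMaximalIn (Cfsg.GU 8 F q ⊓ specialLinear (Fin 8) F)
      (subspaceStabilizer W ⊓ (Cfsg.GU 8 F q ⊓ specialLinear (Fin 8) F)) := by
  obtain ⟨σ, hne, hinv, hσ⟩ := exists_conjEquiv hF
  exact UC.isMaximalIn_uNondeg (isUnitaryForm_hermForm hne hinv hσ) hσ hF (by norm_num) hW0 hW hdim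

/-- Clause (3). -/
theorem isMaximalIn_lines (hF : Fintype.card F = q ^ 2) (D : Fin 8 → Submodule F (Fin 8 → F))
    (hD : IsNondegenerateMDecomposition (Cfsg.hermForm 8 F q) 1 D) :
    IsMaximalIn (Cfsg.GU 8 F q ⊓ specialLinear (Fin 8) F)
      (decompositionStabilizer D ⊓ (Cfsg.GU 8 F q ⊓ specialLinear (Fin 8) F)) := by
  obtain ⟨σ, hne, hinv, hσ⟩ := exists_conjEquiv hF
  have hf := isUnitaryForm_hermForm (n := 8) hne hinv hσ
  have hb : Circle.IsBar q σ := ⟨hσ, hF, hne, hinv⟩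
  have h2q := Circle.two_le hb
  rcases Nat.lt_or_ge q 3 with hq | hq
  · exact isMaximalIn_uLines_two hf hb (by omega) (by norm_num) hD
  refine UMono.isMaximalIn_uDecomposition_one_small hf hb (by norm_num) hq ?_ hD
  by_cases h2 : (2 : F) = 0
  swap
  · exact Or.inl h2
  refine Or.inr ?_
  obtain ⟨ζ, hζ, hord⟩ := Circle.exists_order hb
  refine ⟨ζ, hζ, fun h8 => ?_⟩
  -- in characteristic two the order `q + 1` is odd, so it does not divide eight
  have hsq : ∀ y : F, y ^ 2 = 1 → y = 1 := fun y hy =>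
    sub_eq_zero.mp (pow_eq_zero_iff (two_ne_zero) |>.mp
      (show (y - 1) ^ 2 = 0 by linear_combination hy + (1 - y) * h2))
  exact hord 1 (by omega) one_pos (by
    rw [pow_one]
    exact hsq _ (hsq _ (hsq _ (by rw [← pow_mul, ← pow_mul]; exact h8))))

/-- Clause (4). -/
theorem isMaximalIn_planes (hF : Fintype.card F = q ^ 2) (hq : 3 ≤ q)
    (D : Fin 4 → Submodule F (Fin 8 → F)) (hD : IsNondegenerateMDecomposition (Cfsg.hermForm 8 F q) 2 D) :
    IsMaximalIn (Cfsg.GU 8 F q ⊓ specialLinear (Fin 8) F)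
      (decompositionStabilizer D ⊓ (Cfsg.GU 8 F q ⊓ specialLinear (Fin 8) F)) := by
  obtain ⟨σ, hne, hinv, hσ⟩ := exists_conjEquiv hF
  exact UC.isMaximalIn_uDecomposition (isUnitaryForm_hermForm hne hinv hσ) hσ hF (by norm_num) hD
    (by norm_num) (by omega)

/-- Clause (5). -/
theorem isMaximalIn_solids (hF : Fintype.card F = q ^ 2) (D : Fin 2 → Submodule F (Fin 8 → F))
    (hD : IsNondegenerateMDecomposition (Cfsg.hermForm 8 F q) 4 D) :
    IsMaximalIn (Cfsg.GU 8 F q ⊓ specialLinear (Fin 8) F)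
      (decompositionStabilizer D ⊓ (Cfsg.GU 8 F q ⊓ specialLinear (Fin 8) F)) := by
  obtain ⟨σ, hne, hinv, hσ⟩ := exists_conjEquiv hF
  exact UC.isMaximalIn_uDecomposition (isUnitaryForm_hermForm hne hinv hσ) hσ hF (by norm_num) hD
    (by norm_num) (by omega)

/-- Clause (6). -/
theorem isMaximalIn_pair (hF : Fintype.card F = q ^ 2) (D : Fin 2 → Submodule F (Fin 8 → F))
    (hD : IsMDecomposition 4 D) (hts : ∀ i, IsTotallySingularFor (Cfsg.hermForm 8 F q) (D i)) :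
    IsMaximalIn (Cfsg.GU 8 F q ⊓ specialLinear (Fin 8) F)
      (decompositionStabilizer D ⊓ (Cfsg.GU 8 F q ⊓ specialLinear (Fin 8) F)) :=
  LPair.isMaximalIn_suPair hF (by norm_num) (by norm_num) hD hts

/-- Clause (7). -/
theorem isMaximalIn_tensor (hF : Fintype.card F = q ^ 2) (hq : 3 ≤ q) (e : Fin 8 ≃ Fin 2 × Fin 4)
    (P : Matrix.GeneralLinearGroup (Fin 8) F) (f₁ : (Fin 2 → F) → (Fin 2 → F) → F)
    (f₂ : (Fin 4 → F) → (Fin 4 → F) → F) (hf₁ : IsUnitaryFormPow q f₁) (hf₂ : IsUnitaryFormPow q f₂)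
    (hT : IsTensorFormStructure (fun x : F => x ^ q) (Cfsg.hermForm 8 F q) f₁ f₂ e P) :
    IsMaximalIn (Cfsg.GU 8 F q ⊓ specialLinear (Fin 8) F)
      (tensorProductSubgroup 2 4 e P ⊓ (Cfsg.GU 8 F q ⊓ specialLinear (Fin 8) F)) := by
  obtain ⟨σ, hne, hinv, hσ⟩ := exists_conjEquiv hF
  have h₁ : IsUnitaryForm σ f₁ := ⟨hne, hinv, hf₁.add_left, hf₁.smul_left,
    fun v w => by rw [hσ]; exact hf₁.herm v w, hf₁.nondegenerate⟩
  have h₂ : IsUnitaryForm σ f₂ := ⟨hne, hinv, hf₂.add_left, hf₂.smul_left,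
    fun v w => by rw [hσ]; exact hf₂.herm v w, hf₂.nondegenerate⟩
  have hh : Circle.IsBar q σ := ⟨hσ, hF, hne, hinv⟩
  have hex := TensorUnitary.exists_fixed_ne hF hσ (by omega)
  obtain ⟨ζ, hζ, hord⟩ := Circle.exists_order hh
  exact TensorUnitary.isMaximalIn_tensor_of_block hF hσ (by norm_num) le_rfl (by norm_num)
    (Or.inl le_rfl) (Or.inr hex) e P h₁ h₂
    (fun _ hLM hM _ hgM hgL => TensorUnitary.hasBlock_two h₁ h₂ hLM hM rfl (by norm_num)
      ⟨ζ, (Circle.mem_normOne hh).mp hζ, hord 3 (by omega) (by norm_num)⟩ hex hgM hgL) hT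

/-- Clause (8). -/
theorem isMaximalIn_subfield_odd (hF : Fintype.card F = q ^ 2) (F₀ : Subfield F) (r : ℕ)
    (P : Matrix.GeneralLinearGroup (Fin 8) F) (hr : r.Prime) (hro : Odd r)
    (hcard : Fintype.card F = Nat.card F₀ ^ r)
    (hP : IsFormRationalStructure (Cfsg.hermForm 8 F q) F₀ 1 P) :
    IsMaximalIn (Cfsg.GU 8 F q ⊓ specialLinear (Fin 8) F)
      (subfieldSubgroup F₀ P ⊓ (Cfsg.GU 8 F q ⊓ specialLinear (Fin 8) F)) :=
  FormSubfield.isMaximalIn_suSubfield_odd 8 q hF (by norm_num) F₀ r hr hro hcard P hP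

/-- Clause (9). -/
theorem isMaximalIn_subfield_symp (hF : Fintype.card F = q ^ 2) (F₀ : Subfield F)
    (P : Matrix.GeneralLinearGroup (Fin 8) F) (ζ : F) (hcard : Fintype.card F = Nat.card F₀ ^ 2)
    (hζ0 : ζ ≠ 0) (hζ : ζ + ζ ^ q = 0) (hP : IsFormRationalStructure (Cfsg.hermForm 8 F q) F₀ ζ P)
    (halt : ∀ u : Fin 8 → F, (∀ i, u i ∈ F₀) →
      (Cfsg.hermForm 8 F q) (Matrix.mulVec (P : Matrix (Fin 8) (Fin 8) F) u)
        (Matrix.mulVec (P : Matrix (Fin 8) (Fin 8) F) u) = 0) :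
    IsMaximalIn (Cfsg.GU 8 F q ⊓ specialLinear (Fin 8) F)
      (subfieldSubgroup F₀ P ⊓ (Cfsg.GU 8 F q ⊓ specialLinear (Fin 8) F)) :=
  FormSubfield.isMaximalIn_suSubfield_symp 8 q hF (by norm_num) F₀ hcard ζ hζ0 hζ P hP halt

/-- Clause (10). -/
theorem isMaximalIn_subfield_orth (hF : Fintype.card F = q ^ 2) (hodd : Odd q) (F₀ : Subfield F)
    (P : Matrix.GeneralLinearGroup (Fin 8) F) (hcard : Fintype.card F = Nat.card F₀ ^ 2)
    (hP : IsFormRationalStructure (Cfsg.hermForm 8 F q) F₀ 1 P) :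
    IsMaximalIn (Cfsg.GU 8 F q ⊓ specialLinear (Fin 8) F)
      (subfieldSubgroup F₀ P ⊓ (Cfsg.GU 8 F q ⊓ specialLinear (Fin 8) F)) :=
  FormSubfield.isMaximalIn_suSubfield_orth 8 q hF (by norm_num) hodd F₀ hcard P hP

end CfsgLib.SUEight
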