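import Cfsg.Agent.SUEight.UnitaryDouble
import Cfsg.Agent.SLEight.SymplecticType
import Cfsg.Agent.SUFour.Extraspecial

/-!
# The normaliser of a symplectic type group is maximal in `SU₈(p)`, `p ≡ 3 (mod 4)`
-/

set_option autoImplicit false
set_option linter.unusedSectionVars false

namespace CfsgLib.SUEight

open Matrix Cfsg.Geo CfsgLib.MaxSub CfsgLib.SympType

local notation:max "mat" => Units.val

variable {F : Type*} [Field F] [Fintype F] {q : ℕ}

/-- A centre of order four contains a scalar square root of `-1`. -/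
theorem exists_root_of_center {ι : Type} [Fintype ι] [DecidableEq ι] [Nonempty ι] {R : Subgroup (GL ι F)}
    (D : Data R) (h4 : Nat.card (Subgroup.center R) = 4) :
    ∃ j ∈ R, j ∈ scalars ι F ∧ j * j = -1 := by
  classical
  by_contra h
  push Not at h
  have hsub : (fun z : Subgroup.center R => ((z : R) : GL ι F)) '' Set.univ ⊆ {1, -1} := by
    rintro _ ⟨z, -, rfl⟩
    have hzs : ((z : R) : GL ι F) ∈ scalars ι F :=
      D.scalar_of_comm fun y hy => (congrArg Subtype.val (Subgroup.mem_center_iff.1 z.2 ⟨y, hy⟩)).symm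
    obtain ⟨c, hc⟩ := (mem_scalars_iff _).1 hzs
    rcases D.sq _ (z : R).2 with e | e
    · have hc2 : (c : F) * c = 1 := by
        have := congrArg (fun u : GL ι F => mat u (Classical.arbitrary ι) (Classical.arbitrary ι)) e
        simpa [hc, smul_smul] using this
      rcases mul_self_eq_one_iff.1 hc2 with h' | h'
      · exact Or.inl (Units.ext (by rw [hc, h']; simp))
      · exact Or.inr (Units.ext (by rw [hc, h']; simp))
    · exact absurd e (h _ (z : R).2 hzs)
  have hle := Set.ncard_le_ncard hsub (Set.toFinite _)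
  rw [Set.ncard_image_of_injective _ (fun a b h => Subtype.ext (Subtype.ext h)), Set.ncard_univ, h4] at hle
  have := hle.trans (Set.ncard_insert_le _ _)
  simp at this

/-- Orthonormal coordinates in which two anticommuting isometric involutions are `diag (1, -1)` and the swap. -/
theorem exists_frame8 {σ : F ≃+* F} (hσ : ∀ a, σ a = a ^ q) (hf : IsUnitaryForm σ (Cfsg.hermForm 8 F q))
    (hf₄ : IsUnitaryForm σ (Cfsg.hermForm 4 F q)) (hF : Fintype.card F = q ^ 2) (h2 : (2 : F) ≠ 0)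
    (h3 : q % 4 = 3) {x y : GL (Fin 8) F} (hx : x ∈ Cfsg.GU 8 F q) (hy : y ∈ Cfsg.GU 8 F q)
    (hx2 : x * x = 1) (hy2 : y * y = 1) (hxy : x * y = -(y * x)) :
    ∃ (M : Matrix (Fin 8) (Fin 4 ⊕ Fin 4) F) (N : Matrix (Fin 4 ⊕ Fin 4) (Fin 8) F) (K : Frame8 q σ M N),
      K.coord sg = x ∧ K.coord sw = y := by
  classical
  have hs := sesqForm_of_unitary hf
  have hxi := mem_GU_iff_forall.1 hx
  have hyi := mem_GU_iff_forall.1 hy
  have hxx : ∀ v : Fin 8 → F, mat x *ᵥ (mat x *ᵥ v) = v := fun v => by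
    rw [mulVec_mulVec, ← Units.val_mul, hx2, Units.val_one, one_mulVec]
  have hyy : ∀ v : Fin 8 → F, mat y *ᵥ (mat y *ᵥ v) = v := fun v => by
    rw [mulVec_mulVec, ← Units.val_mul, hy2, Units.val_one, one_mulVec]
  have hxyv : ∀ v : Fin 8 → F, mat x *ᵥ (mat y *ᵥ v) = -(mat y *ᵥ (mat x *ᵥ v)) := fun v => by
    rw [mulVec_mulVec, mulVec_mulVec, ← Units.val_mul, hxy, Units.val_neg, neg_mulVec, Units.val_mul]
  -- the eigen space of `1`
  obtain ⟨E, hE⟩ : ∃ E : Submodule F (Fin 8 → F), ∀ {v}, v ∈ E ↔ mat x *ᵥ v = v :=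
    ⟨LinearMap.ker (Matrix.toLin' (mat x) - LinearMap.id), by simp [sub_eq_zero]⟩
  obtain ⟨E', hE'⟩ : ∃ E' : Submodule F (Fin 8 → F), ∀ {v}, v ∈ E' ↔ mat x *ᵥ v = -v :=
    ⟨LinearMap.ker (Matrix.toLin' (mat x) + LinearMap.id), by simp [eq_neg_iff_add_eq_zero]⟩
  have horth : ∀ u ∈ E, ∀ v ∈ E', Cfsg.hermForm 8 F q u v = 0 := fun u hu v hv => by
    have h := hxi u v
    rw [hE.1 hu, hE'.1 hv, hs.neg_right, neg_eq_iff_add_eq_zero, ← two_mul] at h
    exact (mul_eq_zero.1 h).resolve_left h2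
  have hsplit : ∀ v : Fin 8 → F, ∃ p ∈ E, ∃ r ∈ E', v = p + r := fun v =>
    ⟨(2 : F)⁻¹ • (v + mat x *ᵥ v), hE.2 (by rw [mulVec_smul, mulVec_add, hxx, add_comm]),
      (2 : F)⁻¹ • (v - mat x *ᵥ v), hE'.2 (by rw [mulVec_smul, mulVec_sub, hxx, ← smul_neg, neg_sub]), by
        rw [← smul_add, add_add_sub_cancel, ← two_smul F v, smul_smul, inv_mul_cancel₀ h2, one_smul]⟩
  have hnd : IsNondegenerateOn (Cfsg.hermForm 8 F q) E := fun w hw hw0 => by
    obtain ⟨z, hz⟩ := hs.exists_left_ne_zero hw0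
    obtain ⟨p, hp, r, hr, rfl⟩ := hsplit z
    rw [hs.add_left, unitary_orth_symm hf (horth w hw r hr), add_zero] at hz
    exact ⟨⟨p, hp, hz⟩, p, hp, unitary_ne_symm hf hz⟩
  have hswap : ∀ {v}, v ∈ E → mat y *ᵥ v ∈ E' := fun {v} hv => hE'.2 (by rw [hxyv, hE.1 hv])
  have hswap' : ∀ {v}, v ∈ E' → mat y *ᵥ v ∈ E := fun {v} hv => hE.2 (by
    rw [hxyv, hE'.1 hv, mulVec_neg, neg_neg])
  have hdim : Module.finrank F E = 4 := by
    have hc : IsCompl E E' := by
      refine IsCompl.of_eq ?_ ?_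
      · rw [eq_bot_iff]
        rintro v ⟨hv, hv'⟩
        have e := (hE.1 hv).symm.trans (hE'.1 hv')
        rw [eq_neg_iff_add_eq_zero, ← two_smul F v] at e
        exact (smul_eq_zero.1 e).resolve_left h2
      · rw [eq_top_iff]
        intro v _
        obtain ⟨p, hp, r, hr, rfl⟩ := hsplit v
        exact Submodule.add_mem_sup hp hr
    have h := Submodule.finrank_add_eq_of_isCompl hc
    have e : E' = E.map (Matrix.toLin' (mat y)) := by
      refine le_antisymm (fun v hv => ⟨_, hswap' hv, by rw [toLin'_apply, hyy]⟩) ?_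
      rintro _ ⟨v, hv, rfl⟩
      rw [toLin'_apply]; exact hswap hv
    rw [e, Matrix.toLin'_apply', UC.finrank_map_gl hf, Module.finrank_fin_fun] at h
    omega
  obtain ⟨b, hb, hbb⟩ := UC.exists_frame hf hnd hdim
  obtain ⟨M, hM⟩ : ∃ M : Matrix (Fin 8) (Fin 4 ⊕ Fin 4) F, ∀ s,
      M *ᵥ Pi.single s 1 = Sum.elim b (fun i => mat y *ᵥ b i) s :=
    ⟨Matrix.of fun k s => Sum.elim b (fun i => mat y *ᵥ b i) s k, fun s => by
      funext k; simp⟩
  have hcol : ∀ s s', Cfsg.hermForm 8 F q (M *ᵥ Pi.single s 1) (M *ᵥ Pi.single s' 1) = if s = s' then 1 else 0 := by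
    rintro (i | i) (j | j) <;> simp only [hM, Sum.elim_inl, Sum.elim_inr, Sum.inl.injEq, Sum.inr.injEq, reduceCtorEq,
      if_false]
    · exact hbb i j
    · exact horth _ (hb i) _ (hswap (hb j))
    · exact unitary_orth_symm hf (horth _ (hb j) _ (hswap (hb i)))
    · rw [hyi, hbb]
  have hNM : (M.map σ)ᵀ * M = 1 := by
    refine Matrix.ext fun s s' => ?_
    rw [Matrix.one_apply]
    refine Eq.trans ?_ ((hcol s' s).trans (if_congr eq_comm rfl rfl))
    simp [Cfsg.hermForm, Matrix.mul_apply, hσ, mul_comm]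
  have hMN : M * (M.map σ)ᵀ = 1 :=
    (Matrix.mul_eq_one_comm_of_equiv (finSumFinEquiv (m := 4) (n := 4))).1 hNM
  refine ⟨M, _, ⟨hσ, hf, hf₄, hF, h2, h3, rfl, hMN, hNM⟩, ?_⟩
  have key : ∀ (g : GL (Fin 4 ⊕ Fin 4) F) (z : GL (Fin 8) F), mat z * M = M * mat g →
      coordEquiv M _ hMN hNM g = z :=
    fun g z h => Units.ext (by rw [coordEquiv_val, ← h, Matrix.mul_assoc, hMN, Matrix.mul_one])
  refine ⟨key _ _ ?_, key _ _ ?_⟩
  · refine Matrix.ext_of_mulVec_single fun s => ?_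
    rw [← mulVec_mulVec, ← mulVec_mulVec]
    rcases s with i | i
    · rw [hM, sg, bd_val, mulVec_single_one, Sum.elim_inl, hE.1 (hb i)]
      conv_lhs => rw [← Sum.elim_inl b (fun i => mat y *ᵥ b i) i, ← hM]
      congr 1
      funext s; rcases s with j | j <;> simp [Matrix.one_apply, Pi.single_apply]
    · rw [hM, sg, bd_val, mulVec_single_one, Sum.elim_inr, hE'.1 (hswap (hb i))]
      conv_lhs => rw [← Sum.elim_inr b (fun i => mat y *ᵥ b i) i, ← hM, ← mulVec_neg]
      congr 1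
      funext s; rcases s with j | j <;> simp [Matrix.one_apply, Pi.single_apply]
  · refine Matrix.ext_of_mulVec_single fun s => ?_
    rw [← mulVec_mulVec, ← mulVec_mulVec]
    rcases s with i | i
    · rw [hM, Sum.elim_inl]
      conv_lhs => rw [← Sum.elim_inr b (fun i => mat y *ᵥ b i) i, ← hM]
      rw [sw]
      congr 1
      funext s; rcases s with j | j <;> simp [Matrix.one_apply, Pi.single_apply]
    · rw [hM, Sum.elim_inr, hyy]
      conv_lhs => rw [← Sum.elim_inl b (fun i => mat y *ᵥ b i) i, ← hM]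
      rw [sw]
      congr 1
      funext s; rcases s with j | j <;> simp [Matrix.one_apply, Pi.single_apply]

/-- Clause (11). -/
theorem isMaximalIn_symplecticType (hF : Fintype.card F = q ^ 2) :
    ∀ (p : ℕ) (R : Subgroup (GL (Fin 8) F)), p.Prime → q = p → p % 4 = 3 →
      IsSymplecticTypeGroup 2 R → ActsAbsolutelyIrreducibly (matrixSet R) → R ≤ Cfsg.GU 8 F q →
      Nat.card R = 256 → Nat.card (Subgroup.center R) = 4 →
      IsMaximalIn (Cfsg.GU 8 F q ⊓ specialLinear (Fin 8) F)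
        (subgroupNormalizer R ⊓ (Cfsg.GU 8 F q ⊓ specialLinear (Fin 8) F)) := by
  classical
  intro p R hp hqp hp4 hsymp habs hRU hcardR hcen
  obtain ⟨σ, hne, hinv, hσ⟩ := exists_conjEquiv hF
  have hq4 : q % 4 = 3 := hqp ▸ hp4
  have hodd : Odd q := Nat.odd_iff.2 (by omega)
  have h2 : (2 : F) ≠ 0 := two_ne_zero_of_odd (by rw [hF]; exact hodd.pow)
  have D := Data.of_symplecticType h2 hsymp habs
  obtain ⟨j, hj, hjs, hj2⟩ := exists_root_of_center D hcen
  -- two anticommuting involutions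
  obtain ⟨x, hx, hxns⟩ : ∃ x ∈ R, x ∉ scalars (Fin 8) F := by
    by_contra h
    push Not at h
    have hle : Nat.card R ≤ Nat.card (Subgroup.center R) := by
      have : Subgroup.center R = ⊤ := eq_top_iff.2 fun z _ => Subgroup.mem_center_iff.2 fun w =>
        Subtype.ext (scalar_comm (h z z.2) (w : GL (Fin 8) F)).symm
      rw [this, Subgroup.card_top]
    omega
  obtain ⟨y, hy, hxy⟩ := D.exists_anti hx hxns
  obtain ⟨-, a, ha, hxR, hx2⟩ := D.rootify hj hjs hj2 hx
  obtain ⟨-, b, hb, hyR, hy2⟩ := D.rootify hj hjs hj2 hy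
  have hxy' : a * x * (b * y) = -(b * y * (a * x)) := by
    rw [show a * x * (b * y) = a * (x * b) * y by group, ← scalar_comm hb x, show b * y * (a * x) = b * (y * a) * x by
      group, ← scalar_comm ha y, show a * (b * x) * y = a * b * (x * y) by group, hxy, scalar_comm ha b, mul_neg]
    group
  obtain ⟨M, N, K, hsg, hsw⟩ := exists_frame8 hσ (isUnitaryForm_hermForm hne hinv hσ)
    (isUnitaryForm_hermForm hne hinv hσ) hF h2 hq4 (hRU hxR) (hRU hyR) hx2 hy2 hxy'
  obtain ⟨R₂, hR₂⟩ : ∃ R₂ : Subgroup (GL (Fin 4 ⊕ Fin 4) F), R₂ = R.comap K.coord.toMonoidHom := ⟨_, rfl⟩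
  have S : Split R₂ := by
    subst hR₂
    refine ⟨D.comap, ?_, ?_⟩
    · show K.coord sg ∈ R
      rw [hsg]; exact hxR
    · show K.coord sw ∈ R
      rw [hsw]; exact hyR
  obtain ⟨j₀, hj₀, hj₀s, hj₀2⟩ : ∃ j₀ ∈ small R₂, j₀ ∈ scalars (Fin 4) F ∧ j₀ * j₀ = -1 := by
    obtain ⟨c, hc⟩ := (mem_scalars_iff j).1 hjs
    obtain ⟨j₀, hj₀⟩ : ∃ j₀ : GL (Fin 4) F, mat j₀ = (c : F) • (1 : Matrix (Fin 4) (Fin 4) F) :=
      ⟨Units.map (Matrix.scalar (Fin 4) : F →+* Matrix (Fin 4) (Fin 4) F).toMonoidHom c,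
        by simp [Matrix.smul_one_eq_diagonal]⟩
    refine ⟨j₀, ?_, (mem_scalars_iff _).2 ⟨c, hj₀⟩, Units.ext ?_⟩
    · rw [mem_small, hR₂, Subgroup.mem_comap]
      show K.coord (bd (j₀, j₀)) ∈ R
      rw [show K.coord (bd (j₀, j₀)) = j from Units.ext (by
        rw [Frame8.coord, coordEquiv_val, bd_val, hj₀, hc, ← smul_zero (A := Matrix (Fin 4) (Fin 4) F) (c : F),
          ← fromBlocks_smul, fromBlocks_one, Matrix.mul_smul, Matrix.smul_mul, Matrix.mul_one, K.mul_one])]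
      exact hj
    · have e := congrArg (fun u : GL (Fin 8) F => mat u 0 0) hj2
      simp [hc] at e
      rw [Units.val_mul, hj₀, Matrix.smul_mul, Matrix.one_mul, smul_smul, e, Units.val_neg, Units.val_one, neg_smul,
        one_smul]
  obtain ⟨hsymp₂, hcen₂⟩ := S.small_data.symplecticType (by simp) hj₀ hj₀s hj₀2
  have hsmall : Nat.card (small R₂) = 64 := by
    have h : Nat.card R = 4 * Nat.card (small R₂) := by
      rw [← S.card_eq, hR₂]
      exact (Nat.card_congr (K.coord.toEquiv.subtypeEquiv fun g => Iff.rfl)).symm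
    omega
  have T : CfsgLib.SLFour.FourData (small R₂) :=
    ⟨h2, hsymp₂, S.small_data.abs, hcen₂, 2, by rw [hsmall]; norm_num⟩
  have hRle : R₂ ≤ K.GU₂ := hR₂ ▸ fun g hg => hRU hg
  have L := K.doubling S hRle ⟨j₀, hj₀, hj₀s, hj₀2⟩ T.le_special
  have base := CfsgLib.SUFour.isMaximalIn_extraspecial hF p (small R₂) hp hqp hp4 hsymp₂ S.small_data.abs
    (fun a ha => (L.small_le ha).1) hsmall hcen₂
  refine isMaximalIn_of_comap K.coord ?_
  have e1 : (subgroupNormalizer R).comap K.coord.toMonoidHom = subgroupNormalizer R₂ := hR₂ ▸ normalizer_comap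
  have e2 : (specialLinear (Fin 8) F).comap K.coord.toMonoidHom = specialLinear (Fin 4 ⊕ Fin 4) F := specialLinear_comap
  simp only [Subgroup.comap_inf, e1, e2]
  exact L.isMaximalIn base

end CfsgLib.SUEight
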