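import Cfsg.Agent.MaxSub.UnitaryDecompositionOne

/-!
# Orthonormal lines in unitary spaces over the field with four elements

An overgroup of the monomial group moves a centre with two coordinates to one with at least four, from
which every isotropic vector is a centre once the dimension is at least seven.
-/

set_option autoImplicit false
set_option linter.unusedSectionVars false

namespace CfsgLib.SUEight

open Matrix Cfsg.Geo CfsgLib.MaxSub CfsgLib.MaxSub.UC CfsgLib.MaxSub.UMono CfsgLib.MaxSub.Monomial
  CfsgLib.MaxSub.Circle

variable {F : Type*} [Field F] [Fintype F] {n q : ℕ} {σ : F ≃+* F}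

local notation "V" => (Fin n → F)
local notation "η" => Cfsg.hermForm n F q
local notation "Mat" => Matrix (Fin n) (Fin n) F
local notation "ε⟦" r "⟧" => (Pi.single r (1 : F) : Fin n → F)
local notation "SU" => (Cfsg.GU n F q ⊓ specialLinear (Fin n) F)

variable (hf : IsUnitaryForm σ (Cfsg.hermForm n F q)) (hb : IsBar q σ) (hq2 : q = 2)
include hf hb hq2

/-- A centre with at least four coordinates. -/
theorem exists_centre_four (hn : 4 ≤ n) {M : Subgroup (GL (Fin n) F)} (hM : UMonoIn σ M)
    (hMU : M ≤ Cfsg.GU n F q) {g : GL (Fin n) F} (hg : g ∈ M) (hg' : ¬ Mono g) :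
    ∃ v : V, η v v = 0 ∧ 4 ≤ (supp v).card ∧ CentreIn q σ M v := by
  classical
  have hs := sesqForm_of_unitary hf
  have hgU := hMU hg
  have h2 : (2 : F) = 0 := two_zero hf hb hq2
  by_contra hcon
  push Not at hcon
  have small : ∀ w : V, η w w = 0 → CentreIn q σ M w → (supp w).card ≤ 2 := by
    intro w hw hc
    have h4 := lt_of_not_ge fun h => hcon w hw h hc
    obtain ⟨k, hk⟩ := supp_even hf hb hq2 hw
    omega
  obtain ⟨ω, hω, hω'⟩ := exists_normOne_notMem hb {1} (by have := two_le hb; simp; omega)
  rw [Finset.mem_singleton] at hω'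
  have hω0 := ne_zero_of_mem hb hω
  have hω2 : ω ^ 2 ≠ 1 := fun h => hω' (by
    have h3 := cube_one hf hb hq2 hω0
    linear_combination h3 - ω * h)
  set P : Fin n → V := fun a => (g : Mat) *ᵥ ε⟦a⟧ with hP
  -- two columns meet at most three coordinates
  have hu : ∀ a b, a ≠ b → (supp (P a) ∪ supp (P b)).card ≤ 3 := by
    intro a b hab
    set T := supp (P a) ∪ supp (P b) with hT
    have hweight : ∀ x : F, x ≠ 0 → (supp (P a + x • P b)).card ≤ 2 := by
      intro x hx
      have hN := (mem_normOne hb).mp (mem_normOne_two hf hb hq2 hx)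
      have hzz : η (ε⟦a⟧ + x • ε⟦b⟧) (ε⟦a⟧ + x • ε⟦b⟧) = 0 := by
        simp only [hs.add_left, hs.add_right, hs.smul_left, hs.smul_right, herm_single_right hf hb,
          Pi.single_eq_same, Pi.single_eq_of_ne hab, Pi.single_eq_of_ne (Ne.symm hab)]
        linear_combination h2 + hN
      have hc := centreIn_map hf
        (pair_monomial hf hb hq2 hM hzz hab fun p p1 p2 => by simp [p1, p2]) hgU hg
      have := small _ (by rw [mem_GU_iff_forall.mp hgU, hzz]) hc
      rwa [mulVec_add, mulVec_smul] at this
    set Z : Fin 3 → Finset (Fin n) := fun i => T.filter fun p => (P a + (ω ^ (i : ℕ)) • P b) p = 0 with hZ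
    have hge : ∀ i, T.card ≤ (Z i).card + 2 := by
      intro i
      have h1 := (Finset.card_le_card (s := T \ Z i) fun p hp => by
        simp only [hZ, Finset.mem_sdiff, Finset.mem_filter, not_and] at hp
        exact (mem_supp hf hb).mpr (hp.2 hp.1)).trans (hweight _ (pow_ne_zero (i : ℕ) hω0))
      have h3 := Finset.card_sdiff_add_card_eq_card (show Z i ⊆ T from Finset.filter_subset _ _)
      omega
    have hdis : ∀ i j, i ≠ j → Disjoint (Z i) (Z j) := by
      intro i j hij
      rw [Finset.disjoint_left]
      intro p hpi hpj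
      simp only [hZ, Finset.mem_filter, Pi.add_apply, Pi.smul_apply, smul_eq_mul] at hpi hpj
      have e : (ω ^ (i : ℕ) - ω ^ (j : ℕ)) * P b p = 0 := by linear_combination hpi.2 - hpj.2
      rcases mul_eq_zero.mp e with e | e
      · exact hij (pow_three_inj hω0 hω' hω2 i j (sub_eq_zero.mp e))
      · have hga : P a p = 0 := by simpa [e] using hpi.2
        have := hpi.1
        rw [hT, Finset.mem_union, mem_supp hf hb, mem_supp hf hb] at this
        exact this.elim (fun h => h hga) (fun h => h e)
    have hsum : ∑ i, (Z i).card ≤ T.card := by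
      rw [← Finset.card_biUnion (fun i _ j _ hij => hdis i j hij)]
      exact Finset.card_le_card (Finset.biUnion_subset.mpr fun i _ => Finset.filter_subset _ _)
    rw [Fin.sum_univ_three] at hsum
    have := hge 0; have := hge 1; have := hge 2
    omega
  -- a column with three coordinates contains all columns
  obtain ⟨a, ha⟩ : ∃ a, 2 ≤ (supp (P a)).card := by
    by_contra h
    push Not at h
    have h1 : ∀ d, ∃ p, supp (P d) = {p} := fun d => Finset.card_eq_one.mp (by
      have h0 := supp_card_pos hf hb (w := P d) fun e => by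
        simpa using congrFun (UC.mulVec_eq_zero hf e) d
      have := h d
      omega)
    choose π hπ using h1
    have hin : ∀ p d, (g : Mat) p d ≠ 0 → p = π d := fun p d h => by
      rw [← Finset.mem_singleton, ← hπ d, mem_supp hf hb]; simp only [hP]; rw [col_apply' hf hb]; exact h
    have hself : ∀ d, (g : Mat) (π d) d ≠ 0 := fun d => by
      rw [← col_apply' hf hb]
      exact (mem_supp hf hb).mp (show π d ∈ supp (P d) by rw [hπ d]; exact Finset.mem_singleton_self _)
    have hinj : Function.Injective π := by
      intro a b hab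
      by_contra hne
      have := col_herm hf hb hgU a b
      rw [if_neg hne, UMono.herm_apply hf hb, Finset.sum_eq_single (π a)] at this
      · rw [col_apply' hf hb, col_apply' hf hb] at this
        exact mul_ne_zero (hself a) ((map_ne_zero_iff σ σ.injective).mpr (hab ▸ hself b)) this
      · intro x _ hx
        rw [col_apply' hf hb, col_apply' hf hb]
        have : (g : Mat) x a = 0 := by_contra fun h => hx (hin x a h)
        rw [this, zero_mul]
      · simp
    exact hg' ⟨Equiv.ofBijective π (Finite.injective_iff_bijective.mp hinj), hin⟩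
  have ha3 : 3 ≤ (supp (P a)).card := by
    by_contra h
    have hcast : ((supp (P a)).card : F) = 1 := by
      have hPP : η (P a) (P a) = 1 := by simp only [hP]; rw [col_herm hf hb hgU, if_pos rfl]
      rw [← hPP, UMono.sum_norm hf hb, ← Finset.sum_subset (Finset.subset_univ (supp (P a))) (fun x _ hx => by
        rw [mem_supp hf hb, not_not] at hx; rw [hx, zero_mul]), Finset.sum_congr rfl (g := fun _ => (1 : F))
        (fun x hx => (mem_normOne hb).mp (mem_normOne_two hf hb hq2 ((mem_supp hf hb).mp hx))),
        Finset.sum_const, nsmul_eq_mul, mul_one]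
    rw [show (supp (P a)).card = 2 by omega, Nat.cast_two, h2] at hcast
    exact zero_ne_one hcast
  have hsub : ∀ b p, p ∉ supp (P a) → (g : Mat) p b = 0 := by
    intro b p hp
    by_contra hne
    have hpb : p ∈ supp (P b) := (mem_supp hf hb).mpr (by simp only [hP]; rw [col_apply' hf hb]; exact hne)
    rcases eq_or_ne b a with rfl | hba
    · exact hp hpb
    · have h1 := Finset.card_le_card (show insert p (supp (P a)) ⊆ supp (P a) ∪ supp (P b) from
        Finset.insert_subset (Finset.mem_union_right _ hpb) Finset.subset_union_left)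
      rw [Finset.card_insert_of_notMem hp] at h1
      have := hu a b (Ne.symm hba)
      omega
  obtain ⟨b, hba⟩ : ∃ b : Fin n, b ≠ a := by
    obtain ⟨b, -, hb'⟩ := Finset.exists_mem_ne (s := (Finset.univ : Finset (Fin n))) (by simp; omega) a
    exact ⟨b, hb'⟩
  obtain ⟨p, -, hp⟩ := Finset.exists_mem_notMem_of_card_lt_card
    (show (supp (P a)).card < (Finset.univ : Finset (Fin n)).card by
      have h1 := (Finset.card_le_card (Finset.subset_union_left (s₁ := supp (P a)) (s₂ := supp (P b)))).trans
        (hu a b (Ne.symm hba))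
      rw [Finset.card_univ, Fintype.card_fin]
      omega)
  have e : ((g⁻¹ : GL (Fin n) F) : Mat) *ᵥ ε⟦p⟧ = 0 := funext fun r => by
    rw [col_apply' hf hb, inv_entry hf hb hgU, hsub r p hp, map_zero]; rfl
  simpa using congrFun (UC.mulVec_eq_zero hf e) p

/-- The stabiliser of orthonormal lines is maximal in `SU` for `q = 2` from dimension seven on. -/
theorem isMaximalIn_uLines_two (hn : 7 ≤ n) {t : ℕ} {D : Fin t → Submodule F (Fin n → F)}
    (hD : IsNondegenerateMDecomposition η 1 D) : IsMaximalIn SU (decompositionStabilizer D ⊓ SU) :=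
  isMaximalIn_uDecomposition_one_of hf hb (by omega)
    (fun M hM hMU g hg hg' => by
      obtain ⟨v, hvv, hv4, hcv⟩ := exists_centre_four hf hb hq2 (by omega) hM hMU hg hg'
      obtain ⟨z, -, hz4, hcz⟩ := centre_four_exact hf hb hq2 hn hM hvv hv4 hcv
      exact su_le_of_forall_uTv hf hb.eq_pow hb.card (by omega)
        (all_centres_four hf hb hq2 hn hM hz4 hcz)) hD

end CfsgLib.SUEight
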